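import Cfsg.Agent.H580.IF.EvenC
import Cfsg.Agent.H74.SpN
import Cfsg.Agent.H999.IF.EngB
import Cfsg.Agent.H209.IF.Kill
import Cfsg.Agent.LieClassical.SympCount
import Cfsg.Agent.ClassicalGeometry.SympInvolutions

/-!
# S5719, `PSp_4(q)`, `q` even (helper580)
-/

set_option autoImplicit false
set_option linter.unusedSectionVars false

namespace Cfsg.Agent.H580.Fx

open MulAction Subgroup Module Cfsg Cfsg.Agent.H74.Psp Cfsg.Agent.H209.Fxy
open Cfsg.Agent.ClassicalGeometry.SympBasic Cfsg.Agent.ClassicalGeometry.SympInvolutions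

variable (F : Type) [Field F] [Fintype F]

theorem charP_of_even (h : Even (Fintype.card F)) : CharP F 2 := by
  obtain ⟨p, hp⟩ := CharP.exists F
  have : Fact p.Prime := ⟨CharP.char_is_prime F p⟩
  obtain ⟨n, hn, hc⟩ := FiniteField.card F p
  rw [hc] at h
  have h2 : 2 ∣ p := Nat.prime_two.prime.dvd_of_dvd_pow h.two_dvd
  have h3 : p = 2 := ((Nat.prime_dvd_prime_iff_eq Nat.prime_two hn).1 h2).symm
  rw [← h3]
  exact hp

/-- in characteristic two, `PSp_4(F)` is `Sp` -/
theorem exists_iso [CharP F 2] : Nonempty (PSp 2 F ≃* Sp (sympBilin 2 F)) := by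
  have h1 : Subgroup.center (Matrix.symplecticGroup (Fin 2) F) = ⊥ := by
    rw [Subgroup.eq_bot_iff_forall]
    intro z hz
    rcases center_eq hz with h | h
    · exact Subtype.ext h
    · apply Subtype.ext
      rw [h]
      ext i j
      rw [Matrix.neg_apply, CharTwo.neg_eq]
      rfl
  let e1 : PSp 2 F ≃* Matrix.symplecticGroup (Fin 2) F :=
    (QuotientGroup.quotientMulEquivOfEq h1).trans QuotientGroup.quotientBot
  exact ⟨e1.trans (MulEquiv.ofBijective (toSp 2) (toSp_bijective 2))⟩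

/-- **The cell `PSp_4(q)`, `q` even.** -/
theorem psp4_even (h3 : 3 ≤ Fintype.card F) (hev : Even (Fintype.card F)) (hs : IsSimpleGroup (PSp 2 F)) :
    KillE (PSp 2 F) := by
  classical
  have := charP_of_even F hev
  have h4 : 4 ≤ Fintype.card F := by
    obtain ⟨k, hk⟩ := hev
    omega
  obtain ⟨e⟩ := exists_iso F
  intro A Γ hA ⟨t, htA, ht⟩
  have hs' : IsSimpleGroup (Sp (sympBilin 2 F)) := (MulEquiv.isSimpleGroup_congr e).1 hs
  have h5 := hA.map e
  set A' := A.map e.toMonoidHom with hA'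
  have hB : Symp (sympBilin 2 F) := symp_sympBilin 2
  have hq : Nat.card F = Fintype.card F := Nat.card_eq_fintype_card
  have hV : Nat.card (Fin 2 ⊕ Fin 2 → F) = Nat.card F ^ 4 := by
    rw [Nat.card_fun, Nat.card_sum, Nat.card_fin]
  have hcard : Nat.card (Sp (sympBilin 2 F)) = Nat.card F ^ 4 * ((Nat.card F ^ 2 - 1) * (Nat.card F ^ 4 - 1)) := by
    rw [← Nat.card_congr (MulEquiv.ofBijective (toSp 2) (toSp_bijective (F := F) 2)).toEquiv,
      LieClassical.SympCount.card_symplecticGroup, hq, Finset.prod_range_succ, Finset.prod_range_one]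
    norm_num
  have hne : ∃ x, ¬ Tv A' x := by
    let K : Subgroup (Matrix.symplecticGroup (Fin 2) F) := A'.comap (toSp 2)
    have hK : K.map (toSp 2) = A' := Subgroup.map_comap_eq_self_of_surjective (toSp_bijective 2).2 A'
    have hK1 : K ≠ ⊤ := by
      intro h6
      apply h5.ne_top
      rw [← hK, h6]
      exact Subgroup.map_top_of_surjective _ (toSp_bijective 2).2
    obtain ⟨x, hx⟩ := exists_not_Tv 2 hK1
    rw [hK] at hx
    exact ⟨x, hx⟩
  have hna : ∃ a b : Sp (sympBilin 2 F), a * b ≠ b * a := by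
    by_contra! hcon
    have h0 : (Pi.single (Sum.inl 0) 1 : Fin 2 ⊕ Fin 2 → F) ≠ 0 := by
      intro h
      have := congrFun h (Sum.inl 0)
      rw [Pi.single_eq_same, Pi.zero_apply] at this
      exact one_ne_zero this
    obtain ⟨x', hx'⟩ := sep0 hB h0
    obtain ⟨s, hs0, hs1⟩ : ∃ s : F, s ≠ 0 ∧ s ≠ 1 := by
      by_contra! h6
      have h7 : Fintype.card F ≤ 2 := by
        rw [← Finset.card_univ]
        refine (Finset.card_le_card (t := {0, 1}) fun x _ => ?_).trans (Finset.card_le_two)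
        by_cases hx : x = 0
        · simp [hx]
        · simp [h6 x hx]
      omega
    have h6 := conj_t hB (hh (sympBilin 2 F) (Pi.single (Sum.inl 0) 1) x' s) (Pi.single (Sum.inl 0) 1) 1
    rw [hcon, inv_mul_cancel_left, hh_smul_v hB hx' hs0, t_scale hB, mul_one] at h6
    have h7 := t_inj hB h0 h6
    have h8 : (s + 1) ^ 2 = 0 := by
      have h9 : (2 : F) = 0 := CharTwo.two_eq_zero
      linear_combination -h7 + (s + 1) * h9
    have h9 := pow_eq_zero_iff two_ne_zero |>.1 h8
    exact hs1 (CharTwo.add_eq_zero.1 h9)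
  have hE2 : HE2 A' := by
    intro g hg hg1 hgg C hC
    have h6 : orderOf g = 2 := orderOf_eq_prime (by rw [sq, hgg]) hg1
    exact ((H999.IFB.IF.E2' h5 hna hg h6).2.2.2.2 C hC).1
  have ht2 : orderOf (e t) = 2 := by rw [MulEquiv.orderOf_eq, ht]
  refine even_false hB hV hE2 hne (by rw [hq]; exact h4) hcard (g := e t) ⟨t, htA, rfl⟩ ?_ ?_
  · intro h6
    rw [h6, orderOf_one] at ht2
    exact absurd ht2 (by norm_num)
  · rw [← sq]
    exact orderOf_dvd_iff_pow_eq_one.1 (dvd_of_eq ht2)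

end Cfsg.Agent.H580.Fx
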