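import Cfsg.Agent.H74.SpN
import Cfsg.Agent.H804.IF.P4
import Cfsg.Agent.ClassicalGeometry.SympGamma
import Cfsg.Agent.ClassicalGeometry.SympInvolutions
import Cfsg.Agent.ClassicalGeometry.SympAutExists
import Cfsg.Agent.ClassicalGeometry.SympAutOddA
import Cfsg.Agent.LieClassical.SympCount

/-!
# S5719, `PSp_4(q)`, `q` odd: the concrete setting; automorphisms are semilinear (helper580)

* `pi2 F : Sp (sympBilin 2 F) →* PSp 2 F`, `ctx_pi2 : Ctx (pi2 F)`;
* `semiAut_pi2`.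
-/

set_option autoImplicit false
set_option linter.unusedSectionVars false

namespace Cfsg.Agent.H580.Fx

open MulAction Subgroup Module Cfsg Cfsg.Agent.H74.Psp Cfsg.Agent.H209.Fxy
open Cfsg.Agent.ClassicalGeometry.SympBasic Cfsg.Agent.ClassicalGeometry.SympAutSemi
open Cfsg.Agent.ClassicalGeometry.SympGamma

variable (F : Type) [Field F]

/-- `symplecticGroup ≃* Sp` -/
noncomputable def eqT : Matrix.symplecticGroup (Fin 2) F ≃* Sp (sympBilin 2 F) :=
  MulEquiv.ofBijective (toSp 2) (toSp_bijective 2)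

/-- `Sp → PSp` -/
noncomputable def pi2 : Sp (sympBilin 2 F) →* PSp 2 F :=
  (QuotientGroup.mk' (Subgroup.center (Matrix.symplecticGroup (Fin 2) F))).comp (eqT F).symm.toMonoidHom

variable {F}

theorem pi2_toSp (A : Matrix.symplecticGroup (Fin 2) F) : pi2 F (toSp 2 A) = (QuotientGroup.mk A : PSp 2 F) := by
  change (QuotientGroup.mk ((eqT F).symm (eqT F A)) : PSp 2 F) = _
  rw [MulEquiv.symm_apply_apply]

theorem semiAut_of [Finite F] (h2 : (2 : F) ≠ 0) {π : Sp (sympBilin 2 F) →* PSp 2 F}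
    (hπ : ∀ A : Matrix.symplecticGroup (Fin 2) F, π (toSp 2 A) = (QuotientGroup.mk A : PSp 2 F))
    (σ : MulAut (PSp 2 F)) : ∃ g : (Fin 2 ⊕ Fin 2 → F) ≃+ (Fin 2 ⊕ Fin 2 → F), ∀ h₀ : Sp (sympBilin 2 F),
      ∃ h₁ : Sp (sympBilin 2 F), (∀ v, h₁ • g v = g (h₀ • v)) ∧ σ (π h₀) = π h₁ := by
  obtain ⟨g, hg⟩ := ClassicalGeometry.SympAutExists.exists_semi (le_refl 2) σ
    (ClassicalGeometry.SympAutOddA.recog (le_refl 2) (Or.inr h2) σ)
  obtain ⟨φ, c, hc, hs⟩ := id g.2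
  refine ⟨{ g.1 with map_add' := hs.1 }, fun h₀ => ?_⟩
  obtain ⟨A, rfl⟩ := (toSp_bijective (F := F) 2).2 h₀
  refine ⟨toSp 2 (conjHom 2 F g A), fun v => ?_, ?_⟩
  · have h3 := rho_conjHom g A
    have h4 := DFunLike.congr_fun h3 (g.1 v)
    rw [Equiv.Perm.mul_apply, Equiv.Perm.mul_apply, perm_inv_apply_self] at h4
    exact h4
  · rw [hπ, hπ, ← hg]
    rfl

theorem semiAut_pi2 [Finite F] (h2 : (2 : F) ≠ 0) (σ : MulAut (PSp 2 F)) :
    ∃ g : (Fin 2 ⊕ Fin 2 → F) ≃+ (Fin 2 ⊕ Fin 2 → F), ∀ h₀ : Sp (sympBilin 2 F),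
      ∃ h₁ : Sp (sympBilin 2 F), (∀ v, h₁ • g v = g (h₀ • v)) ∧ σ (pi2 F h₀) = pi2 F h₁ :=
  semiAut_of h2 pi2_toSp σ

theorem toSp_neg_one {A : Matrix.symplecticGroup (Fin 2) F}
    (h : (A : Matrix (Fin 2 ⊕ Fin 2) (Fin 2 ⊕ Fin 2) F) = -1) : toSp (F := F) 2 A = negOne (sympBilin 2 F) := by
  apply Sp.ext'
  intro x
  rw [toSp_smul, negOne_smul, h, Matrix.neg_mulVec, Matrix.one_mulVec]

/-- **the setting for `PSp_4(q)`, `q` odd** -/
theorem ctx_pi2 [Finite F] (h2 : (2 : F) ≠ 0) : H804.P4.Ctx (pi2 F) := by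
  have := Fintype.ofFinite F
  have hq : Nat.card F = Fintype.card F := Nat.card_eq_fintype_card
  refine ⟨symp_sympBilin 2, ?_, h2, ?_, ?_, ?_, ?_⟩
  · rw [Nat.card_fun, Nat.card_sum, Nat.card_fin]
  · intro y
    induction y using QuotientGroup.induction_on with
    | H A => exact ⟨toSp 2 A, pi2_toSp A⟩
  · obtain ⟨A, hA⟩ := (toSp_bijective (F := F) 2).2 (negOne (sympBilin 2 F))
    rw [← hA, pi2_toSp, QuotientGroup.eq_one_iff, Subgroup.mem_center_iff]
    intro g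
    apply (toSp_bijective (F := F) 2).1
    rw [map_mul, map_mul, hA]
    apply Sp.ext'
    intro x
    rw [mul_smul, mul_smul, negOne_smul, negOne_smul]
    exact map_neg ((toSp 2 g : Sp (sympBilin 2 F)) : (Fin 2 ⊕ Fin 2 → F) ≃ₗ[F] (Fin 2 ⊕ Fin 2 → F)) x
  · intro g hg
    obtain ⟨A, rfl⟩ := (toSp_bijective (F := F) 2).2 g
    rw [pi2_toSp, QuotientGroup.eq_one_iff] at hg
    rcases ClassicalGeometry.SympInvolutions.center_eq hg with h | h
    · left
      have h3 : A = 1 := Subtype.ext h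
      rw [h3, map_one]
    · right
      exact toSp_neg_one h
  · rw [← Nat.card_congr (eqT F).toEquiv, LieClassical.SympCount.card_symplecticGroup, hq, Finset.prod_range_succ,
      Finset.prod_range_one]
    norm_num

end Cfsg.Agent.H580.Fx
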