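import Cfsg.Agent.H580.IF.Burn
import Cfsg.Agent.H74.SpI

/-!
# S5719, PSp_4(q), q even, step (a): a transvection in `A` gives all transvections (helper580)
-/

set_option autoImplicit false
set_option linter.unusedSectionVars false

namespace Cfsg.Agent.H580.Fx

open MulAction Subgroup Module Cfsg.Agent.H74.Psp

variable {F V : Type*} [Field F] [AddCommGroup V] [Module F V] {B : V →ₗ[F] V →ₗ[F] F}

/-- the group of transvections with centre `w` -/
noncomputable def Th (hB : Symp B) (w : V) : Multiplicative F →* Sp B where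
  toFun c := t B w c.toAdd
  map_one' := t_zero hB w
  map_mul' _ _ := (t_mul hB w _ _).symm

theorem mem_Th {hB : Symp B} {w : V} {g : Sp B} : g ∈ (Th hB w).range ↔ ∃ c, t B w c = g := Iff.rfl

theorem t_inj (hB : Symp B) [FiniteDimensional F V] {w : V} (hw : w ≠ 0) {c d : F} (h : t B w c = t B w d) :
    c = d := by
  obtain ⟨y, hy⟩ := sep0 hB hw
  have h2 := congrArg (fun g : Sp B => g • y) h
  simp only [t_smul hB] at h2
  have h3 : (c * B y w) • w = (d * B y w) • w := add_left_cancel h2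
  rw [skew hB y w, hy] at h3
  have h4 := smul_left_injective F hw h3
  simpa using h4

theorem card_Th (hB : Symp B) [FiniteDimensional F V] {w : V} (hw : w ≠ 0) :
    Nat.card (Th hB w).range = Nat.card F := by
  have h1 : Function.Injective (Th hB w) := fun a b h => t_inj hB hw h
  exact (Nat.card_congr (MonoidHom.ofInjective h1).toEquiv).symm

theorem stab_le (hB : Symp B) (v : V) (a : F) :
    stabilizer (Sp B) v ≤ centralizer {t B v a} := by
  intro g hg
  rw [mem_stabilizer_iff] at hg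
  rw [mem_centralizer_singleton_iff, ← mul_inv_eq_iff_eq_mul, conj_t hB, hg]

/-- (E2) -/
def HE2 (A : Subgroup (Sp B)) : Prop :=
  ∀ t ∈ A, t ≠ 1 → t * t = 1 → ∀ C : Subgroup (Sp B), C ≤ centralizer {t} →
    A.relIndex C ^ 5 < (centralizer {t}).index

section

variable [Finite F] [Finite V] (hB : Symp B) (hV : Nat.card V = Nat.card F ^ 4)
include hB hV

theorem cent_idx {v : V} (hv : v ≠ 0) (a : F) : (centralizer {t B v a}).index < Nat.card F ^ 4 := by
  have h1 : (centralizer {t B v a}).index ≤ (stabilizer (Sp B) v).index :=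
    Subgroup.index_antitone (stab_le hB v a)
  have h2 : (stabilizer (Sp B) v).index ≤ Nat.card V - 1 := by
    rw [index_stabilizer]
    have h3 : orbit (Sp B) v ⊆ ({0} : Set V)ᶜ := by
      rintro _ ⟨g, rfl⟩
      exact (smul_ne_zero_iff_ne g).2 hv
    have h4 := Set.ncard_le_ncard h3 (Set.toFinite _)
    rw [Set.ncard_compl, Set.ncard_singleton] at h4
    exact h4
  have h3 : 0 < Nat.card V := Nat.card_pos
  omega

variable {A : Subgroup (Sp B)} (hA : HE2 A) [CharP F 2]
include hA

theorem relIndex_lt {v : V} (hv : v ≠ 0) {a : F} (ha : a ≠ 0) (h : t B v a ∈ A) {C : Subgroup (Sp B)}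
    (hC : C ≤ centralizer {t B v a}) : A.relIndex C < Nat.card F := by
  have h1 := hA _ h (by
    intro h0
    rw [← t_zero hB v] at h0
    exact ha (t_inj hB hv h0)) (by rw [t_mul hB, CharTwo.add_self_eq_zero, t_zero hB]) C hC
  have h2 := h1.trans (cent_idx hB hV hv a)
  by_contra! h3
  have h4 : Nat.card F ^ 4 ≤ A.relIndex C ^ 5 :=
    (Nat.pow_le_pow_right Nat.card_pos (by norm_num)).trans (Nat.pow_le_pow_left h3 5)
  omega

theorem exists_t_orth {v : V} (hv : v ≠ 0) {a : F} (ha : a ≠ 0) (h : t B v a ∈ A) {w : V} (hw : w ≠ 0)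
    (hvw : B v w = 0) : ∃ c : F, c ≠ 0 ∧ t B w c ∈ A := by
  have hle : (Th hB w).range ≤ centralizer {t B v a} := by
    rintro _ ⟨c, rfl⟩
    refine stab_le hB v a ?_
    rw [mem_stabilizer_iff]
    exact t_smul_orth hB w _ (orth_symm hB hvw)
  have h1 := relIndex_lt hB hV hA hv ha h hle
  by_contra! h2
  have h3 : A.subgroupOf (Th hB w).range = ⊥ := by
    rw [Subgroup.eq_bot_iff_forall]
    rintro ⟨_, ⟨c, rfl⟩⟩ hx
    rw [mem_subgroupOf] at hx
    apply Subtype.ext
    by_cases hc : c.toAdd = 0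
    · change t B w c.toAdd = 1
      rw [hc, t_zero hB]
    · exact absurd hx (h2 _ hc)
  rw [Subgroup.relIndex, h3, Subgroup.index_bot, card_Th hB hw] at h1
  exact lt_irrefl _ h1

omit hA [CharP F 2] in
theorem exists_orth2 (v w : V) : ∃ z, z ≠ 0 ∧ B v z = 0 ∧ B w z = 0 := by
  by_contra! hcon
  have hinj : Function.Injective (fun x : V => (B v x, B w x)) := by
    intro x y hxy
    rw [Prod.mk.injEq] at hxy
    by_contra hne
    have h1 := hcon (x - y) (sub_ne_zero.2 hne) (by rw [map_sub, hxy.1, sub_self])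
    exact h1 (by rw [map_sub, hxy.2, sub_self])
  have h1 := Nat.card_le_card_of_injective _ hinj
  rw [Nat.card_prod, hV] at h1
  have h2 : 1 < Nat.card F := Finite.one_lt_card
  have h3 : Nat.card F * Nat.card F < Nat.card F ^ 4 := by
    rw [← sq]
    exact Nat.pow_lt_pow_right h2 (by norm_num)
  omega

theorem exists_t {v : V} (hv : v ≠ 0) {a : F} (ha : a ≠ 0) (h : t B v a ∈ A) {w : V} (hw : w ≠ 0) :
    ∃ c : F, c ≠ 0 ∧ t B w c ∈ A := by
  obtain ⟨z, hz, h1, h2⟩ := exists_orth2 hB hV v w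
  obtain ⟨c, hc, h3⟩ := exists_t_orth hB hV hA hv ha h hz h1
  exact exists_t_orth hB hV hA hz hc h3 hw (orth_symm hB h2)

/-- **Step (a)** -/
theorem all_Tv {v : V} (hv : v ≠ 0) {a : F} (ha : a ≠ 0) (h : t B v a ∈ A) (x : V) : Tv A x := by
  by_cases hx : x = 0
  · rw [hx]
    exact Tv.zero hB
  obtain ⟨x', hx'⟩ := sep0 hB hx
  obtain ⟨w, hw, h1, h2⟩ := exists_orth2 hB hV x x'
  obtain ⟨c, hc, h3⟩ := exists_t hB hV hA hv ha h hw
  set S := centralizer {t B w c} with hS
  have h4 := relIndex_lt hB hV hA hw hc h3 (C := S) le_rfl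
  have hTS : (Th hB x).range ≤ S := by
    rintro _ ⟨d, rfl⟩
    refine stab_le hB w c ?_
    rw [mem_stabilizer_iff]
    exact t_smul_orth hB x _ h1
  have hhS : ∀ s : F, s ≠ 0 → hh B x x' s ∈ S := by
    intro s hs
    refine stab_le hB w c ?_
    rw [mem_stabilizer_iff]
    exact hh_smul_orth hB hx' hs h1 h2
  have h5 := le_of_index_lt ((Th hB x).range.subgroupOf S) (A.subgroupOf S) (by
    rintro ⟨g, hgS⟩ hg ⟨k, hkS⟩ hk hg1 hk1
    rw [mem_subgroupOf] at hg hk
    obtain ⟨y, hy⟩ := hg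
    obtain ⟨z, hz⟩ := hk
    change t B x y.toAdd = g at hy
    change t B x z.toAdd = k at hz
    have hy0 : y.toAdd ≠ 0 := by
      intro h0
      rw [h0, t_zero hB] at hy
      exact hg1 (Subtype.ext hy.symm)
    have hz0 : z.toAdd ≠ 0 := by
      intro h0
      rw [h0, t_zero hB] at hz
      exact hk1 (Subtype.ext hz.symm)
    obtain ⟨s, hs⟩ : ∃ s : F, s ^ 2 = z.toAdd / y.toAdd := by
      have := Fintype.ofFinite F
      obtain ⟨s, hs⟩ := (FiniteField.isSquare_of_char_two (CharP.eq F (ringChar.charP F) inferInstance)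
        (z.toAdd / y.toAdd))
      exact ⟨s, by rw [hs, sq]⟩
    have hs0 : s ≠ 0 := by
      rintro rfl
      rw [zero_pow two_ne_zero, eq_comm, div_eq_zero_iff] at hs
      rcases hs with hs | hs
      · exact hz0 hs
      · exact hy0 hs
    rw [isConj_iff]
    refine ⟨⟨hh B x x' s, hhS s hs0⟩, Subtype.ext ?_⟩
    change hh B x x' s * g * (hh B x x' s)⁻¹ = k
    rw [← hy, ← hz, conj_t hB, hh_smul_v hB hx' hs0, t_scale hB, hs, div_mul_cancel₀ _ hy0])
    (by
      have h6 : Nat.card ((Th hB x).range.subgroupOf S) = Nat.card F := by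
        rw [← card_Th hB hx]
        exact Nat.card_congr (Subgroup.subgroupOfEquivOfLe hTS).toEquiv
      rw [h6]
      exact h4)
  intro d
  have h6 : (⟨t B x d, hTS ⟨Multiplicative.ofAdd d, rfl⟩⟩ : S) ∈ (Th hB x).range.subgroupOf S := by
    rw [mem_subgroupOf]
    exact ⟨Multiplicative.ofAdd d, rfl⟩
  exact h5 h6

end

end Cfsg.Agent.H580.Fx
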